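import Mathlib.Logic.Relation
import Mathlib.Data.Set.Image

/-!
Coverings of graphs: a covering with lifting of triangles is injective when every square of the base
is closed, any two vertices have a common neighbour and so has any vertex and any edge.
-/

set_option autoImplicit false

namespace CfsgLib.Pres.SU

/-- A graph over another one, with unique lifting of edges and lifting of triangles. -/
structure Cover (Y Ω : Type*) where
  adj : Ω → Ω → Prop
  adj_symm : ∀ {a b}, adj a b → adj b a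
  p : Y → Ω
  R : Y → Y → Prop
  R_adj : ∀ {y z}, R y z → adj (p y) (p z)
  R_symm : ∀ {y z}, R y z → R z y
  lift : ∀ (y : Y) {u : Ω}, adj (p y) u → ∃ z, R y z ∧ p z = u
  uniq : ∀ {y z z'}, R y z → R y z' → p z = p z' → z = z'
  tri : ∀ {y z z'}, R y z → R y z' → adj (p z) (p z') → R z z'

namespace Cover

variable {Y Ω : Type*} (C : Cover Y Ω)

/-- The two paths from `a` to `c` through `w` and through `w'` lift to paths with the same end. -/
def Sq (a c w w' : Ω) : Prop :=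
  ∀ y y1 y2 z z', C.p y = a → C.R y y1 → C.p y1 = w → C.R y y2 → C.p y2 = w' →
    C.R y1 z → C.p z = c → C.R y2 z' → C.p z' = c → z = z'

variable {C}

theorem Sq.refl (a c w : Ω) : C.Sq a c w w := by
  intro y y1 y2 z z' _ h1 e1 h2 e2 hz ez hz' ez'
  obtain rfl := C.uniq h1 h2 (e1.trans e2.symm)
  exact C.uniq hz hz' (ez.trans ez'.symm)

theorem Sq.symm {a c w w' : Ω} (h : C.Sq a c w w') : C.Sq a c w' w :=
  fun y y1 y2 z z' ey h1 e1 h2 e2 hz ez hz' ez' =>
    (h y y2 y1 z' z ey h2 e2 h1 e1 hz' ez' hz ez).symm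

theorem Sq.trans {a c w x w' : Ω} (hax : C.adj a x) (hxc : C.adj x c) (h : C.Sq a c w x)
    (h' : C.Sq a c x w') : C.Sq a c w w' := by
  intro y y1 y2 z z' ey h1 e1 h2 e2 hz ez hz' ez'
  obtain ⟨y3, h3, e3⟩ := C.lift y (u := x) (ey ▸ hax)
  obtain ⟨z3, hz3, ez3⟩ := C.lift y3 (u := c) (e3 ▸ hxc)
  exact (h y y1 y3 z z3 ey h1 e1 h3 e3 hz ez hz3 ez3).trans
    (h' y y3 y2 z3 z' ey h3 e3 h2 e2 hz3 ez3 hz' ez')

/-- A square with a diagonal edge between the middle vertices is closed. -/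
theorem Sq.of_mid {a c w w' : Ω} (hww : C.adj w w') (hcw : C.adj c w') : C.Sq a c w w' := by
  intro y y1 y2 z z' _ h1 e1 h2 e2 hz ez hz' ez'
  exact C.uniq (C.tri (C.tri h1 h2 (by rw [e1, e2]; exact hww)) hz
    (by rw [e2, ez]; exact C.adj_symm hcw)) hz'
    (ez.trans ez'.symm)

/-- The other diagonal. -/
theorem Sq.rotate {a c w w' : Ω} (hcw' : C.adj c w') (h : C.Sq w w' a c) : C.Sq a c w w' := by
  intro y y1 y2 z z' ey h1 e1 h2 e2 hz ez hz' ez'
  obtain ⟨y3, h3, e3⟩ := C.lift z (u := w') (ez ▸ hcw')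
  obtain rfl := h y1 y z y2 y3 e1 (C.R_symm h1) ey hz ez h2 e2 h3 e3
  exact C.uniq (C.R_symm h3) hz' (ez.trans ez'.symm)

/-- Moving the first vertex to another one whose squares with it are closed. -/
theorem Sq.move {a a' c w w' : Ω} (hwa : C.adj w a') (hw'a : C.adj w' a') (haa : C.Sq a a' w w')
    (h : C.Sq a' c w w') : C.Sq a c w w' := by
  intro y y1 y2 z z' ey h1 e1 h2 e2 hz ez hz' ez'
  obtain ⟨y', hy', ey'⟩ := C.lift y1 (u := a') (e1 ▸ hwa)
  obtain ⟨y'', hy'', ey''⟩ := C.lift y2 (u := a') (e2 ▸ hw'a)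
  obtain rfl := haa y y1 y2 y' y'' ey h1 e1 h2 e2 hy' ey' hy'' ey''
  exact h y' y1 y2 z z' ey' (C.R_symm hy') e1 (C.R_symm hy'') e2 hz ez hz' ez'

/-- The conclusion: the covering is injective. -/
theorem injective (y0 : Y) (conn : ∀ y, Relation.ReflTransGen C.R y0 y)
    (two : ∀ a c : Ω, a ∈ Set.range C.p → c ∈ Set.range C.p → ∃ w, C.adj a w ∧ C.adj c w)
    (three : ∀ a b c : Ω, a ∈ Set.range C.p → b ∈ Set.range C.p → c ∈ Set.range C.p → C.adj b c →
      ∃ w, C.adj a w ∧ C.adj b w ∧ C.adj c w)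
    (square : ∀ a c w w' : Ω, C.adj a w → C.adj c w → C.adj a w' → C.adj c w' → C.Sq a c w w') :
    Function.Injective C.p := by
  have key : ∀ y, ∀ w y1, C.adj (C.p y) w → C.R y0 y1 → C.p y1 = w → C.R y1 y := by
    intro y
    induction conn y with
    | refl => exact fun w y1 _ h _ => C.R_symm h
    | @tail a b _ hab ih =>
      intro w y1 hbw h1 e1
      obtain ⟨z, hz0, hza, hzb⟩ := three _ _ _ ⟨y0, rfl⟩ ⟨a, rfl⟩ ⟨b, rfl⟩ (C.R_adj hab)
      obtain ⟨z1, hz1, ez1⟩ := C.lift y0 hz0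
      have h3 : C.R z1 b :=
        C.tri (C.R_symm (ih z z1 hza hz1 ez1)) hab (by rw [ez1]; exact C.adj_symm hzb)
      obtain ⟨b', hb', eb'⟩ := C.lift y1 (u := C.p b) (e1 ▸ C.adj_symm hbw)
      obtain rfl := square (C.p y0) (C.p b) w z (e1 ▸ C.R_adj h1) hbw hz0 hzb
        y0 y1 z1 b' b rfl h1 e1 hz1 ez1 hb' eb' h3 rfl
      exact hb'
  intro y y' e
  obtain ⟨w, hw0, hwy⟩ := two (C.p y0) (C.p y) ⟨y0, rfl⟩ ⟨y, rfl⟩
  obtain ⟨y1, h1, e1⟩ := C.lift y0 hw0
  exact C.uniq (key y w y1 hwy h1 e1) (key y' w y1 (e ▸ hwy) h1 e1) e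

end Cover

end CfsgLib.Pres.SU
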