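import Cfsg.Agent.Lib.Pres.SU.Vec
import Cfsg.Agent.Lib.Pres.SU.Cover

/-!
The graph of orthogonality on the vectors of norm one of a Hermitian space of dimension at least
five: squares are closed in every covering with lifting of triangles, up to one family over the
field of four elements in dimension six.
-/

set_option autoImplicit false

namespace CfsgLib.Pres.SU

open Matrix CfsgLib.Classical CfsgLib.Classical.Unitary

/-- The vectors of norm one. -/
abbrev One {F : Type*} [Field F] (σ : F →+* F) (n : ℕ) := {v : Fin n → F // uh σ v v = 1}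

/-- A configuration with both diagonals degenerate and independent radicals. -/
structure Bad {F : Type*} [Field F] {n : ℕ} (σ : F →+* F) (a c w w' : Fin n → F) : Prop where
  ex : ∃ (l m : F) (r r' : Fin n → F), l * σ l = 1 ∧ m * σ m = 1 ∧ c = l • a + r ∧ w' = m • w + r' ∧
    uh σ a a = 1 ∧ uh σ w w = 1 ∧ uh σ a w = 0 ∧ uh σ r r = 0 ∧ uh σ r' r' = 0 ∧ uh σ r r' = 0 ∧
    uh σ r a = 0 ∧ uh σ r w = 0 ∧ uh σ r' a = 0 ∧ uh σ r' w = 0 ∧ r ≠ 0 ∧ ∀ b : F, r' ≠ b • r

variable {F : Type*} [Field F] [Finite F] {σ : F →+* F} {q n k : ℕ}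

omit [Finite F] in
theorem on_pair (h : UFrob σ q) {a b : Fin n → F} (ha : uh σ a a = 1) (hb : uh σ b b = 1)
    (hab : uh σ a b = 0) : ON σ ![a, b] := by
  intro i j
  fin_cases i <;> fin_cases j <;> simp [ha, hb, hab, h.swap_zero hab]

omit [Finite F] in
theorem on_single {a : Fin n → F} (ha : uh σ a a = 1) : ON σ ![a] := by
  intro i j
  fin_cases i; fin_cases j; simp [ha]

omit [Finite F] in
theorem on_triple (h : UFrob σ q) {a b c : Fin n → F} (ha : uh σ a a = 1) (hb : uh σ b b = 1)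
    (hc : uh σ c c = 1) (hab : uh σ a b = 0) (hac : uh σ a c = 0) (hbc : uh σ b c = 0) :
    ON σ ![a, b, c] := by
  intro i j
  fin_cases i <;> fin_cases j <;>
    simp [ha, hb, hc, hab, hac, hbc, h.swap_zero hab, h.swap_zero hac, h.swap_zero hbc]

/-- Any two vectors have a common orthogonal one of norm one, in dimension at least four. -/
theorem exists_common_two (hF : Nat.card F = q ^ 2) (h : UFrob σ q) (hn : 4 ≤ n) (a c : One σ n) :
    ∃ w : One σ n, uh σ a.1 w.1 = 0 ∧ uh σ c.1 w.1 = 0 := by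
  obtain ⟨z, h1, h2, h3⟩ := exists_perp_one hF h (on_single a.2) c.1 (by omega) (Or.inl (by omega))
  exact ⟨⟨z, h1⟩, h.swap_zero (h2 0), h.swap_zero h3⟩

/-- A vector and two orthogonal ones have a common orthogonal one of norm one. -/
theorem exists_common_three (hF : Nat.card F = q ^ 2) (h : UFrob σ q) (hn : 5 ≤ n) (a b c : One σ n)
    (hbc : uh σ b.1 c.1 = 0) :
    ∃ w : One σ n, uh σ a.1 w.1 = 0 ∧ uh σ b.1 w.1 = 0 ∧ uh σ c.1 w.1 = 0 := by
  obtain ⟨z, h1, h2, h3⟩ :=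
    exists_perp_one hF h (on_pair h b.2 c.2 hbc) a.1 (by omega) (Or.inl (by omega))
  exact ⟨⟨z, h1⟩, h.swap_zero h3, h.swap_zero (h2 0), h.swap_zero (h2 1)⟩

omit [Finite F] in
theorem uh_res_self (h : UFrob σ q) {o : Fin k → Fin n → F} (ho : ON σ o) (v : Fin n → F) :
    uh σ (res σ o v) (res σ o v) = uh σ v v - ∑ i, uh σ v (o i) * σ (uh σ v (o i)) := by
  have e1 : uh σ (res σ o v) (res σ o v) = uh σ v (res σ o v) :=
    uh_res_perp h v fun i => uh_res_left ho v i
  have e2 : uh σ v (res σ o v) = uh σ v v - ∑ i, σ (uh σ v (o i)) * uh σ v (o i) := by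
    rw [res, uh_sub_right]
    congr 1
    simp only [uh, dotProduct, Function.comp_apply, Finset.sum_apply, Pi.smul_apply, smul_eq_mul,
      map_sum, map_mul, Finset.mul_sum]
    rw [Finset.sum_comm]
    refine Finset.sum_congr rfl fun i _ => Finset.sum_congr rfl fun j _ => ?_
    ring
  rw [e1, e2]
  simp only [mul_comm]

omit [Finite F] in
theorem li_snoc {v : Fin k → Fin n → F} (hv : LinearIndependent F v) {w : Fin n → F}
    (hw : ∀ c : Fin k → F, w ≠ ∑ i, c i • v i) :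
    LinearIndependent F (Fin.snoc v w : Fin (k + 1) → Fin n → F) := by
  rw [linearIndependent_finSnoc]
  refine ⟨hv, fun hmem => ?_⟩
  obtain ⟨c, hc⟩ := (Submodule.mem_span_range_iff_exists_fun F).1 hmem
  exact hw c hc.symm

/-- An element of `GU` carrying standard vectors to two orthonormal vectors and two independent
isotropic ones spanning a totally isotropic plane. -/
theorem exists_gu_std_plane (h : UFrob σ q) (hn : 6 ≤ n) {α : F} (hα : α * σ α = -1)
    {a w r r' : Fin n → F} (ha : uh σ a a = 1) (hw : uh σ w w = 1) (haw : uh σ a w = 0)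
    (hr : uh σ r r = 0) (hr' : uh σ r' r' = 0) (hrr : uh σ r r' = 0) (hra : uh σ r a = 0)
    (hrw : uh σ r w = 0) (hra' : uh σ r' a = 0) (hrw' : uh σ r' w = 0) (hr0 : r ≠ 0)
    (hind : ∀ b : F, r' ≠ b • r) :
    ∃ g ∈ Cfsg.GU n F q, g.1 *ᵥ Pi.single ⟨0, by omega⟩ 1 = a ∧
      g.1 *ᵥ Pi.single ⟨1, by omega⟩ 1 = w ∧
      g.1 *ᵥ (Pi.single ⟨2, by omega⟩ 1 + Pi.single ⟨3, by omega⟩ α) = r ∧
      g.1 *ᵥ (Pi.single ⟨4, by omega⟩ 1 + Pi.single ⟨5, by omega⟩ α) = r' := by
  let e0 : Fin n → F := Pi.single ⟨0, by omega⟩ 1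
  let e1 : Fin n → F := Pi.single ⟨1, by omega⟩ 1
  let u : Fin n → F := Pi.single ⟨2, by omega⟩ 1 + Pi.single ⟨3, by omega⟩ α
  let u' : Fin n → F := Pi.single ⟨4, by omega⟩ 1 + Pi.single ⟨5, by omega⟩ α
  have li : ∀ {a w r r' : Fin n → F}, uh σ a a = 1 → uh σ w w = 1 → uh σ a w = 0 →
      uh σ r a = 0 → uh σ r w = 0 → uh σ r' a = 0 → uh σ r' w = 0 → r ≠ 0 → (∀ b : F, r' ≠ b • r) →
      LinearIndependent F ![a, w, r, r'] := by
    intro a w r r' ha hw haw hra hrw hra' hrw' hr0 hind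
    rw [Fintype.linearIndependent_iff]
    intro c hc
    simp only [Fin.sum_univ_four, cons_val_zero, cons_val_one, cons_val_two, cons_val_three,
      head_cons, tail_cons] at hc
    have h0 : c 0 = 0 := by
      have := congrArg (fun x => uh σ x a) hc
      simpa [uh_add_left, uh_smul_left, uh_zero_left, ha, h.swap_zero haw, hra, hra'] using this
    have h1 : c 1 = 0 := by
      have := congrArg (fun x => uh σ x w) hc
      simpa [uh_add_left, uh_smul_left, uh_zero_left, hw, haw, hrw, hrw'] using this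
    rw [h0, h1, zero_smul, zero_smul, zero_add, zero_add] at hc
    have h3 : c 3 = 0 := by
      by_contra h3
      refine hind (-(c 3)⁻¹ * c 2) ?_
      have := congrArg (fun x => (c 3)⁻¹ • x) hc
      simp only [smul_add, smul_smul, inv_mul_cancel₀ h3, one_smul, smul_zero] at this
      rw [neg_mul, neg_smul, eq_neg_iff_add_eq_zero, add_comm]
      exact this
    rw [h3, zero_smul, add_zero] at hc
    have h2 : c 2 = 0 := (smul_eq_zero.1 hc).resolve_right hr0
    intro i; fin_cases i <;> assumption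
  have eu : uh σ u u = 0 ∧ uh σ u' u' = 0 ∧ uh σ u u' = 0 ∧ uh σ u e0 = 0 ∧ uh σ u e1 = 0 ∧
      uh σ u' e0 = 0 ∧ uh σ u' e1 = 0 ∧ uh σ e0 e0 = 1 ∧ uh σ e1 e1 = 1 ∧ uh σ e0 e1 = 0 := by
    simp [u, u', e0, e1, uh_add_left, uh_single_left, Fin.ext_iff]
    linear_combination hα
  obtain ⟨euu, euu', eu12, u0, u1, u0', u1', e00, e11, e01⟩ := eu
  have hu0 : u ≠ 0 := fun e => by simpa [u, Fin.ext_iff] using congrFun e ⟨2, by omega⟩
  have huind : ∀ b : F, u' ≠ b • u := fun b e => by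
    simpa [u, u', Fin.ext_iff] using congrFun e ⟨4, by omega⟩
  obtain ⟨g, hg, hgo⟩ := exists_gu_map h ![e0, e1, u, u'] ![a, w, r, r']
    (li e00 e11 e01 u0 u1 u0' u1' hu0 huind) (li ha hw haw hra hrw hra' hrw' hr0 hind) fun i j => by
      fin_cases i <;> fin_cases j <;>
        simp [e00, e11, e01, euu, euu', eu12, u0, u1, u0', u1', ha, hw, haw, hr, hr', hrr, hra, hrw,
          hra', hrw', h.swap_zero e01, h.swap_zero eu12, h.swap_zero u0, h.swap_zero u1,
          h.swap_zero u0', h.swap_zero u1', h.swap_zero haw, h.swap_zero hrr, h.swap_zero hra,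
          h.swap_zero hrw, h.swap_zero hra', h.swap_zero hrw']
  exact ⟨g, hg, hgo 0, hgo 1, hgo 2, hgo 3⟩

/-- In dimension five two orthogonal isotropic vectors orthogonal to two orthonormal ones are
proportional. -/
theorem five_prop (hF : Nat.card F = q ^ 2) (h : UFrob σ q) {a w r r' : Fin n → F} (hn : n = 5)
    (ha : uh σ a a = 1) (hw : uh σ w w = 1) (haw : uh σ a w = 0) (hr : uh σ r r = 0)
    (hr' : uh σ r' r' = 0) (hrr : uh σ r r' = 0) (hra : uh σ r a = 0) (hrw : uh σ r w = 0)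
    (hra' : uh σ r' a = 0) (hrw' : uh σ r' w = 0) (hr0 : r ≠ 0) : ∃ b : F, r' = b • r := by
  subst hn
  obtain ⟨α, hα⟩ := exists_alpha hF h
  obtain ⟨g, hg, hgo, hgr⟩ := exists_gu_std_iso h (on_pair h ha hw haw) (by norm_num) hα hr0 hr
    fun i => by fin_cases i <;> simp [hra, hrw]
  set y := (g⁻¹).1 *ᵥ r' with hy
  have hgy : g.1 *ᵥ y = r' := by rw [hy, mulVec_mulVec, g.mul_inv, one_mulVec]
  have hga : g.1 *ᵥ Pi.single (0 : Fin 5) 1 = a := hgo 0
  have hgw : g.1 *ᵥ Pi.single (1 : Fin 5) 1 = w := hgo 1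
  have hgr' : g.1 *ᵥ (Pi.single (2 : Fin 5) 1 + Pi.single (3 : Fin 5) α) = r := hgr
  have h0 : y 0 = 0 := by
    have := gu_uh h hg y (Pi.single (0 : Fin 5) 1)
    rw [hga, hgy, hra', uh_single_right] at this
    simpa using this.symm
  have h1 : y 1 = 0 := by
    have := gu_uh h hg y (Pi.single (1 : Fin 5) 1)
    rw [hgw, hgy, hrw', uh_single_right] at this
    simpa using this.symm
  have h23 : y 2 + y 3 * σ α = 0 := by
    have := gu_uh h hg y (Pi.single (2 : Fin 5) 1 + Pi.single (3 : Fin 5) α)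
    rw [hgr', hgy, h.swap_zero hrr, uh_add_right, uh_single_right, uh_single_right] at this
    simp at this
    linear_combination -this
  have hyy : uh σ y y = 0 := by rw [← gu_uh h hg, hgy, hr']
  have h4 : y 4 = 0 := by
    simp [uh, dotProduct, Fin.sum_univ_five, h0, h1] at hyy
    have e2 : y 2 = -(y 3 * σ α) := by linear_combination h23
    rw [e2, map_neg, map_mul, h.invol] at hyy
    have : y 4 * σ (y 4) = 0 := by linear_combination hyy - (y 3 * σ (y 3)) * hα
    simpa using this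
  refine ⟨y 2, ?_⟩
  rw [← hgy, ← hgr', ← mulVec_smul]
  congr 1
  funext i
  fin_cases i <;> simp [h0, h1, h4]
  linear_combination (-α) * h23 + y 3 * hα

variable {Y : Type*}

/-- Squares are closed. -/
theorem square_closed (hF : Nat.card F = q ^ 2) (h : UFrob σ q) (hn : 5 ≤ n)
    (C : Cover Y (One σ n)) (hadj : ∀ a b, C.adj a b ↔ uh σ a.1 b.1 = 0)
    (href : q = 2 → n = 6 → ∀ a c w w', C.adj a w → C.adj c w → C.adj a w' → C.adj c w' →
      Bad σ a.1 c.1 w.1 w'.1 → C.Sq a c w w')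
    (a c w w' : One σ n) (haw : C.adj a w) (hcw : C.adj c w) (haw' : C.adj a w')
    (hcw' : C.adj c w') : C.Sq a c w w' := by
  have sw : ∀ {x y : One σ n}, C.adj x y → uh σ x.1 y.1 = 0 ∧ uh σ y.1 x.1 = 0 :=
    fun {x y} e => ⟨(hadj x y).1 e, (hadj y x).1 (C.adj_symm e)⟩
  have mk : ∀ {x y : One σ n}, uh σ y.1 x.1 = 0 → C.adj x y :=
    fun {x y} e => (hadj x y).2 (h.swap_zero e)
  have hN2 : q = 2 → ∀ x : F, x ≠ 0 → x * σ x = 1 := fun hq x hx => by
    have := Fintype.ofFinite F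
    have h3 := FiniteField.pow_card_sub_one_eq_one x hx
    rw [← Nat.card_eq_fintype_card, hF, hq] at h3
    rw [h.pow, hq, ← pow_succ']
    exact h3
  have cone : ∀ {a c w w' : One σ n}, C.adj a w → C.adj c w → C.adj a w' → C.adj c w' →
      ∀ z : One σ n, uh σ z.1 a.1 = 0 → uh σ z.1 c.1 = 0 → uh σ z.1 w.1 = 0 → uh σ z.1 w'.1 = 0 →
      C.Sq a c w w' := by
    intro a c w w' haw hcw haw' hcw' z za zc zw zw'
    exact Cover.Sq.trans (mk za) (C.adj_symm (mk zc)) (Cover.Sq.of_mid (mk zw) (mk zc))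
      (Cover.Sq.of_mid (C.adj_symm (mk zw')) hcw')
  have good : ∀ a c w w' : One σ n, C.adj a w → C.adj c w → C.adj a w' → C.adj c w' →
      ((∃ l : F, c.1 = l • a.1) ∨ uh σ c.1 a.1 * σ (uh σ c.1 a.1) ≠ 1) → C.Sq a c w w' := by
    intro a c w w' haw hcw haw' hcw' hg
    by_cases hdep : ∃ l : F, c.1 = l • a.1
    · obtain ⟨l, hl⟩ := hdep
      obtain ⟨z, h1, h2, h3⟩ := exists_perp_one hF h (on_pair h a.2 w.2 (sw haw).1) w'.1
        (by omega) (Or.inl (by omega))
      exact cone haw hcw haw' hcw' ⟨z, h1⟩ (h2 0)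
        (by show uh σ z c.1 = 0; rw [hl, uh_smul_right]; exact mul_eq_zero_of_right _ (h2 0))
        (h2 1) h3
    have hne : uh σ c.1 a.1 * σ (uh σ c.1 a.1) ≠ 1 := hg.resolve_left hdep
    by_cases hq : q = 2
    · have hac : uh σ c.1 a.1 = 0 := by
        by_contra h0
        exact hne (hN2 hq _ h0)
      exact Cover.Sq.rotate hcw' (Cover.Sq.of_mid (mk hac) (C.adj_symm hcw'))
    have hq3 : 3 ≤ q := by have := two_le_q hF; omega
    set c1 := c.1 - uh σ c.1 a.1 • a.1 with hc1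
    have hc1a : uh σ c1 a.1 = 0 := by rw [hc1, uh_sub_left, uh_smul_left, a.2, mul_one, sub_self]
    have hc11 : uh σ c1 c1 ≠ 0 := by
      intro e
      refine hne ?_
      rw [hc1, uh_sub_left, uh_sub_right, uh_sub_right, uh_smul_right, uh_smul_left, uh_smul_left,
        uh_smul_right, a.2, c.2, ← h.symm c.1 a.1] at e
      linear_combination -e
    obtain ⟨s, hs0, hs⟩ := exists_normalise hF h hc11
    have hperp : ∀ x, uh σ x a.1 = 0 → uh σ x (s • c1) = 0 → uh σ x c.1 = 0 := fun x h1 h2 => by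
      rw [uh_smul_right, mul_eq_zero] at h2
      have h3 := h2.resolve_left (by simpa using hs0)
      rw [hc1, uh_sub_right, uh_smul_right, h1, mul_zero, sub_zero] at h3
      exact h3
    have hca : uh σ a.1 (s • c1) = 0 := h.swap_zero (by rw [uh_smul_left, hc1a, mul_zero])
    have hperp' : ∀ x : One σ n, C.adj a x → C.adj c x → uh σ x.1 (s • c1) = 0 := fun x hax hcx => by
      rw [uh_smul_right, hc1, uh_sub_right, uh_smul_right, (sw hax).2, (sw hcx).2]; simp
    by_cases hiso : uh σ (res σ ![a.1, s • c1, w.1] w'.1) (res σ ![a.1, s • c1, w.1] w'.1) = 0 →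
        res σ ![a.1, s • c1, w.1] w'.1 = 0
    · obtain ⟨z, h1, h2, h3⟩ := exists_perp_one hF h (on_triple h a.2 hs w.2 hca (sw haw).1
        (h.swap_zero (hperp' w haw hcw))) w'.1 (by omega) (Or.inr hiso)
      exact cone haw hcw haw' hcw' ⟨z, h1⟩ (h2 0) (hperp z (h2 0) (h2 1)) (h2 2) h3
    push Not at hiso
    obtain ⟨z', h1', h2', h3'⟩ := exists_perp_ne hF h hq3 (on_triple h a.2 hs w.2 hca (sw haw).1
        (h.swap_zero (hperp' w haw hcw))) (by omega) hiso.2 hiso.1 (uh_res_left (on_triple h a.2 hs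
        w.2 hca (sw haw).1 (h.swap_zero (hperp' w haw hcw))) _)
    have hT := on_triple h a.2 hs w.2 hca (sw haw).1 (h.swap_zero (hperp' w haw hcw))
    have hO : ON σ ![a.1, s • c1, z'] :=
      on_triple h a.2 hs h1' hca (h.swap_zero (h2' 0)) (h.swap_zero (h2' 1))
    have hz' : uh σ z' w'.1 * σ (uh σ z' w'.1) ≠ 1 := fun e => h3' (by
      rw [← h.symm _ z', uh_res_perp h w'.1 h2', h.symm]
      exact e)
    have hres : uh σ (res σ ![a.1, s • c1, z'] w'.1) (res σ ![a.1, s • c1, z'] w'.1) ≠ 0 := by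
      rw [uh_res_self h hO, w'.2, Fin.sum_univ_three]
      simp only [cons_val_zero, cons_val_one, cons_val_two, head_cons, tail_cons, (sw haw').2,
        hperp' w' haw' hcw', zero_mul, zero_add]
      rw [← h.symm z' w'.1, h.invol, mul_comm, sub_ne_zero]
      exact Ne.symm hz'
    obtain ⟨z, h1, h2, h3⟩ := exists_perp_one hF h hO w'.1 (by omega) (Or.inr fun e => absurd e hres)
    have za : C.adj a ⟨z', h1'⟩ := mk (h2' 0)
    have zc : C.adj c ⟨z', h1'⟩ := mk (hperp z' (h2' 0) (h2' 1))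
    exact Cover.Sq.trans za (C.adj_symm zc) (Cover.Sq.of_mid (C.adj_symm (mk (h.swap_zero (h2' 2)))) zc)
      (cone za zc haw' hcw' ⟨z, h1⟩ (h2 0) (hperp z (h2 0) (h2 1)) (h2 2) h3)
  by_cases hg1 : (∃ l : F, c.1 = l • a.1) ∨ uh σ c.1 a.1 * σ (uh σ c.1 a.1) ≠ 1
  · exact good a c w w' haw hcw haw' hcw' hg1
  by_cases hg2 : (∃ l : F, w'.1 = l • w.1) ∨ uh σ w'.1 w.1 * σ (uh σ w'.1 w.1) ≠ 1
  · exact Cover.Sq.rotate hcw'
      (good w w' a c (C.adj_symm haw) (C.adj_symm haw') (C.adj_symm hcw) (C.adj_symm hcw') hg2)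
  push Not at hg1 hg2
  set l := uh σ c.1 a.1 with hl
  set m := uh σ w'.1 w.1 with hm
  set r := c.1 - l • a.1 with hr
  set r' := w'.1 - m • w.1 with hr'
  have hra : uh σ r a.1 = 0 := by rw [hr, uh_sub_left, uh_smul_left, a.2, mul_one, sub_self]
  have hrw : uh σ r w.1 = 0 := by
    rw [hr, uh_sub_left, uh_smul_left, (sw hcw).1, (sw haw).1]; simp
  have hra' : uh σ r' a.1 = 0 := by
    rw [hr', uh_sub_left, uh_smul_left, (sw haw').2, (sw haw).2]; simp
  have hrw' : uh σ r' w.1 = 0 := by rw [hr', uh_sub_left, uh_smul_left, w.2, mul_one, sub_self]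
  have hrr : uh σ r r = 0 := by
    nth_rw 2 [hr]
    rw [uh_sub_right, uh_smul_right, hra, mul_zero, sub_zero, hr, uh_sub_left, uh_smul_left, c.2,
      ← h.symm c.1 a.1, ← hl]
    linear_combination -hg1.2
  have hrr' : uh σ r' r' = 0 := by
    nth_rw 2 [hr']
    rw [uh_sub_right, uh_smul_right, hrw', mul_zero, sub_zero, hr', uh_sub_left, uh_smul_left, w'.2,
      ← h.symm w'.1 w.1, ← hm]
    linear_combination -hg2.2
  have h12 : uh σ r r' = 0 := by
    rw [hr', uh_sub_right, uh_smul_right, hrw, hr, uh_sub_left, uh_smul_left, (sw hcw').1,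
      (sw haw').1]
    simp
  have hr0 : r ≠ 0 := fun e => hg1.1 l (sub_eq_zero.1 e)
  have hperp : ∀ z : One σ n, uh σ z.1 a.1 = 0 → uh σ z.1 r = 0 → uh σ z.1 c.1 = 0 := fun z za zr => by
    rwa [hr, uh_sub_right, uh_smul_right, za, mul_zero, sub_zero] at zr
  have hperp' : ∀ z : One σ n, uh σ z.1 w.1 = 0 → uh σ z.1 r' = 0 → uh σ z.1 w'.1 = 0 :=
    fun z zw zr => by
    rwa [hr', uh_sub_right, uh_smul_right, zw, mul_zero, sub_zero] at zr
  by_cases hind : ∃ b : F, r' = b • r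
  · obtain ⟨b, hb⟩ := hind
    obtain ⟨z, h1, h2, h3⟩ := exists_perp_one hF h (on_pair h a.2 w.2 (sw haw).1) r
      (by omega) (Or.inl (by omega))
    exact cone haw hcw haw' hcw' ⟨z, h1⟩ (h2 0) (hperp ⟨z, h1⟩ (h2 0) h3) (h2 1)
      (hperp' ⟨z, h1⟩ (h2 1) (by show uh σ z r' = 0; rw [hb, uh_smul_right, h3, mul_zero]))
  push Not at hind
  rcases Nat.eq_or_lt_of_le hn with h5 | h6
  · obtain ⟨b, hb⟩ := five_prop hF h h5.symm a.2 w.2 (sw haw).1 hrr hrr' h12 hra hrw hra' hrw' hr0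
    exact absurd hb (hind b)
  obtain ⟨α, hα⟩ := exists_alpha hF h
  obtain ⟨g, hg, ga, gw, gr, gr'⟩ := exists_gu_std_plane h h6 hα a.2 w.2 (sw haw).1 hrr hrr' h12
    hra hrw hra' hrw' hr0 hind
  by_cases hq : q = 2
  · rcases Nat.eq_or_lt_of_le h6 with h6' | h7
    · exact href hq h6'.symm a c w w' haw hcw haw' hcw' ⟨l, m, r, r', hg1.2, hg2.2, by simp [hr],
        by simp [hr'], a.2, w.2, (sw haw).1, hrr, hrr', h12, hra, hrw, hra', hrw', hr0, hind⟩
    let z : One σ n := ⟨g.1 *ᵥ Pi.single ⟨6, by omega⟩ 1, by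
      rw [gu_uh h hg]; simp [uh_single_left]⟩
    refine cone haw hcw haw' hcw' z ?_ (hperp z ?_ ?_) ?_ (hperp' z ?_ ?_)
    all_goals
      show uh σ (g.1 *ᵥ _) _ = 0
      first
        | (rw [← ga, gu_uh h hg]; simp [uh_single_left]; done)
        | (rw [← gw, gu_uh h hg]; simp [uh_single_left]; done)
        | (rw [← gr, gu_uh h hg]; simp [uh_single_left, Pi.single_apply]; done)
        | (rw [← gr', gu_uh h hg]; simp [uh_single_left, Pi.single_apply]; done)
  have hq3 : 3 ≤ q := by have := two_le_q hF; omega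
  obtain ⟨x, y, hxy, hne⟩ := exists_split hF h hq3 hα
  let z : One σ n := ⟨g.1 *ᵥ (Pi.single ⟨4, by omega⟩ x + Pi.single ⟨5, by omega⟩ y), by
    rw [gu_uh h hg]; simp [uh_add_left, uh_single_left, Fin.ext_iff, hxy]⟩
  have za : uh σ z.1 a.1 = 0 := by
    show uh σ (g.1 *ᵥ _) _ = 0
    rw [← ga, gu_uh h hg]; simp [uh_add_left, uh_single_left, Fin.ext_iff]
  have zw : uh σ z.1 w.1 = 0 := by
    show uh σ (g.1 *ᵥ _) _ = 0
    rw [← gw, gu_uh h hg]; simp [uh_add_left, uh_single_left, Fin.ext_iff]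
  have zr : uh σ z.1 r = 0 := by
    show uh σ (g.1 *ᵥ _) _ = 0
    rw [← gr, gu_uh h hg]; simp [uh_add_left, uh_single_left, Fin.ext_iff]
  have zr' : uh σ z.1 r' * σ (uh σ z.1 r') ≠ 1 := by
    show uh σ (g.1 *ᵥ _) _ * σ (uh σ (g.1 *ᵥ _) _) ≠ 1
    rw [← gr', gu_uh h hg]
    simpa [uh_add_left, uh_single_left, Fin.ext_iff] using hne
  have haz : C.adj a z := mk za
  have hcz : C.adj c z := mk (hperp z za zr)
  have hgood : uh σ w'.1 z.1 * σ (uh σ w'.1 z.1) ≠ 1 := fun e => zr' (by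
    rw [hr', uh_sub_right, uh_smul_right, zw, mul_zero, sub_zero, ← h.symm w'.1 z.1, h.invol,
      mul_comm]
    exact e)
  exact Cover.Sq.trans haz (C.adj_symm hcz) (Cover.Sq.of_mid (mk zw) hcz)
    (Cover.Sq.rotate hcw' (good z w' a c (C.adj_symm haz) (C.adj_symm haw') (C.adj_symm hcz)
      (C.adj_symm hcw') (Or.inr hgood)))

end CfsgLib.Pres.SU
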