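import Cfsg.Agent.Lib.Pres.SU.Graph
import Cfsg.Agent.Lib.Classical.UnitarySimple
import Mathlib.GroupTheory.Coset.Basic

/-!
A group over `SU N` which contains a copy of the stabiliser of a vector of norm one and one more
element with three conditions is `SU N`.
-/

set_option autoImplicit false

namespace CfsgLib.Pres.SU

open Matrix CfsgLib.Classical CfsgLib.Classical.Unitary

variable {F : Type*} [Field F] [Finite F] {σ : F →+* F} {q N k : ℕ}

omit [Finite F] in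
theorem su_mulVec_smul (g : Cfsg.SU N F q) (c : F) (x : Fin N → F) :
    g.1.1 *ᵥ (c • x) = c • (g.1.1 *ᵥ x) := mulVec_smul _ _ _

omit [Finite F] in
theorem exists_su_eq (h : UFrob σ q) {g : GL (Fin N) F} (hg : g ∈ Cfsg.GU N F q) (hdet : g.1.det = 1) :
    ∃ s : Cfsg.SU N F q, s.1.1 = g.1 :=
  ⟨⟨⟨g.1, hdet⟩, mem_SU_iff.2 fun x y => by
    show Cfsg.hermForm N F q (g.1 *ᵥ x) (g.1 *ᵥ y) = _
    rw [h.hermForm_eq, h.hermForm_eq, gu_uh h hg]⟩, rfl⟩

/-- `SU` is transitive on orthonormal families which are not bases. -/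
theorem exists_su_map (hF : Nat.card F = q ^ 2) (h : UFrob σ q) {o o' : Fin k → Fin N → F}
    (ho : ON σ o) (ho' : ON σ o') (hk : k < N) :
    ∃ g : Cfsg.SU N F q, ∀ i, g.1.1 *ᵥ o i = o' i := by
  obtain ⟨g1, hg1, hg1o⟩ := exists_gu_std h ho hk.le
  obtain ⟨g2, hg2, hg2o⟩ := exists_gu_std h ho' hk.le
  set g := g2 * g1⁻¹ with hg
  have hgmem : g ∈ Cfsg.GU N F q := mul_mem hg2 (inv_mem hg1)
  have hgo : ∀ i, g.1 *ᵥ o i = o' i := fun i => by
    rw [← hg1o i, ← hg2o i, hg, Units.val_mul, mulVec_mulVec, mul_assoc, g1.inv_mul, mul_one]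
  set δ : F := g.1.det with hδ
  have hδ1 : δ ^ (q + 1) = 1 := by
    rw [pow_succ', ← h.pow]; exact gu_det_norm hF h (by omega) hgmem
  set x : Fin N → F := Function.update 1 ⟨k, hk⟩ δ⁻¹ with hx
  have hxN : ∀ i, x i ^ (q + 1) = 1 := fun i => by
    rcases eq_or_ne i ⟨k, hk⟩ with rfl | hne
    · rw [hx, Function.update_self, inv_pow, hδ1, inv_one]
    · rw [hx, Function.update_of_ne hne, Pi.one_apply, one_pow]
  have hxd : (Matrix.diagonal x).det = δ⁻¹ := by
    rw [det_diagonal, hx, Finset.prod_update_of_mem (Finset.mem_univ _)]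
    simp
  have hδ0 : δ ≠ 0 := fun e => by simp [e] at hδ1
  let d := GeneralLinearGroup.mkOfDetNeZero (Matrix.diagonal x) (by rw [hxd]; exact inv_ne_zero hδ0)
  have hd : d ∈ Cfsg.GU N F q := fun u v => by
    show Cfsg.hermForm N F q (Matrix.diagonal x *ᵥ u) (Matrix.diagonal x *ᵥ v) = _
    rw [diag_mulVec_herm]
    exact Finset.sum_congr rfl fun i _ => by rw [hxN, one_mul]
  set g' := g * (g1 * d * g1⁻¹) with hg'
  obtain ⟨s, hs⟩ := exists_su_eq h (g := g') (mul_mem hgmem (mul_mem (mul_mem hg1 hd) (inv_mem hg1))) (by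
    show (g.1 * ((g1.1 * Matrix.diagonal x) * (g1⁻¹).1)).det = 1
    rw [det_mul, det_mul, det_mul]
    have e : g1.1.det * (g1⁻¹).1.det = 1 := by rw [← det_mul, g1.mul_inv, det_one]
    show δ * (g1.1.det * (Matrix.diagonal x).det * (g1⁻¹).1.det) = 1
    rw [hxd]
    field_simp
    linear_combination e)
  refine ⟨s, fun i => ?_⟩
  rw [hs]
  have hfix : (g1 * d * g1⁻¹).1 *ᵥ o i = o i := by
    rw [← hg1o i, Units.val_mul, Units.val_mul, mulVec_mulVec, mul_assoc, mul_assoc, g1.inv_mul,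
      mul_one, ← mulVec_mulVec]
    congr 1
    show Matrix.diagonal x *ᵥ Pi.single (Fin.castLE hk.le i) 1 = _
    funext j
    rw [mulVec_diagonal, hx]
    rcases eq_or_ne j ⟨k, hk⟩ with rfl | hne
    · rw [Pi.single_eq_of_ne (fun e => by have := congrArg Fin.val e; simp at this; omega)]
      simp
    · rw [Function.update_of_ne hne, Pi.one_apply, one_mul]
  rw [hg', Units.val_mul, ← mulVec_mulVec, hfix, hgo]

/-- A subgroup containing the stabiliser of a vector of norm one and moving it to an orthogonal one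
is everything. -/
theorem eq_top_of_stab (hF : Nat.card F = q ^ 2) (h : UFrob σ q) (hN : 4 ≤ N) (d : One σ N)
    (H : Subgroup (Cfsg.SU N F q)) (hstab : ∀ g : Cfsg.SU N F q, g.1.1 *ᵥ d.1 = d.1 → g ∈ H)
    {t : Cfsg.SU N F q} (ht : t ∈ H) (htd : uh σ (t.1.1 *ᵥ d.1) d.1 = 0) : H = ⊤ := by
  have hnb : ∀ y ∈ H, ∀ u : One σ N, uh σ u.1 (y.1.1 *ᵥ d.1) = 0 →
      ∃ y' ∈ H, y'.1.1 *ᵥ d.1 = u.1 := by
    intro y hy u hu
    set u' := (y⁻¹).1.1 *ᵥ u.1 with hu'
    have e1 : uh σ u' d.1 = 0 := by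
      rw [hu', ← su_uh h y, su_mulVec_inv, hu]
    have e2 : uh σ u' u' = 1 := by rw [hu', su_uh h, u.2]
    have e3 : uh σ (t.1.1 *ᵥ d.1) (t.1.1 *ᵥ d.1) = 1 := by rw [su_uh h, d.2]
    obtain ⟨g, hg⟩ := exists_su_map hF h (on_pair h d.2 e3 (h.swap_zero htd))
      (on_pair h d.2 e2 (h.swap_zero e1)) (by omega)
    refine ⟨y * g * t, mul_mem (mul_mem hy (hstab g (hg 0))) ht, ?_⟩
    rw [su_mul_mulVec, su_mul_mulVec, show g.1.1 *ᵥ (t.1.1 *ᵥ d.1) = u' from hg 1, hu', su_mulVec_inv]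
  refine eq_top_iff.2 fun g _ => ?_
  obtain ⟨w, hw1, hw2⟩ := exists_common_two hF h hN d ⟨g.1.1 *ᵥ d.1, by rw [su_uh h, d.2]⟩
  obtain ⟨y, hy, ey⟩ := hnb 1 (one_mem _) w (by rw [su_one_mulVec]; exact h.swap_zero hw1)
  obtain ⟨y', hy', ey'⟩ := hnb y hy ⟨g.1.1 *ᵥ d.1, by rw [su_uh h, d.2]⟩ (by rw [ey]; exact hw2)
  have := hstab (y'⁻¹ * g) (by
    rw [su_mul_mulVec]
    have e : g.1.1 *ᵥ d.1 = y'.1.1 *ᵥ d.1 := ey'.symm
    rw [e, su_inv_mulVec])
  simpa using mul_mem hy' this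

/-- The reference configuration in dimension six. -/
def IsRef (σ : F →+* F) (hN : N = 6) (δ : F) (a c w w' : Fin N → F) (g : Cfsg.SU N F q) : Prop :=
  a = g.1.1 *ᵥ Pi.single ⟨0, by omega⟩ δ ∧ w = g.1.1 *ᵥ Pi.single ⟨1, by omega⟩ 1 ∧
    c = g.1.1 *ᵥ (Pi.single ⟨0, by omega⟩ δ + (Pi.single ⟨2, by omega⟩ 1 + Pi.single ⟨3, by omega⟩ 1)) ∧
    w' = g.1.1 *ᵥ (Pi.single ⟨1, by omega⟩ 1 + (Pi.single ⟨4, by omega⟩ 1 + Pi.single ⟨5, by omega⟩ 1))

variable {Y : Type*} [Group Y]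

/-- The conditions. -/
structure StepData (σ : F →+* F) (π : Y →* Cfsg.SU N F q) (H : Subgroup Y) (t : Y) (d c : One σ N) :
    Prop where
  gen : Subgroup.closure ((H : Set Y) ∪ {t}) = ⊤
  inj : ∀ x ∈ H, π x = 1 → x = 1
  fix : ∀ x ∈ H, (π x).1.1 *ᵥ d.1 = d.1
  onto : ∀ g : Cfsg.SU N F q, g.1.1 *ᵥ d.1 = d.1 → ∃ x ∈ H, π x = g
  dc : uh σ d.1 c.1 = 0
  td : (π t).1.1 *ᵥ d.1 = c.1
  tc : (π t).1.1 *ᵥ c.1 = -d.1
  comm : ∀ x ∈ H, (π x).1.1 *ᵥ c.1 = c.1 → Commute t x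
  back : ∃ x ∈ H, (π x).1.1 *ᵥ c.1 = -c.1 ∧ t * x * t ∈ H
  braid : ∃ x ∈ H, uh σ ((π x).1.1 *ᵥ c.1) c.1 = 0 ∧ (x * t)⁻¹ * (t * x * t) ∈ H

/-- The step, given that the coverings of the graph of vectors of norm one are injective. -/
theorem StepData.bijective_of {π : Y →* Cfsg.SU N F q} {H : Subgroup Y} {t : Y} {d c : One σ N}
    (D : StepData σ π H t d c) (hF : Nat.card F = q ^ 2) (h : UFrob σ q) (hN : 4 ≤ N)
    (hinj : ∀ C : Cover (Y ⧸ H) (One σ N), (∀ a b, C.adj a b ↔ uh σ a.1 b.1 = 0) →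
      (∀ x : Y, (C.p (x : Y ⧸ H)).1 = (π x).1.1 *ᵥ d.1) →
      (∀ y z, C.R y z ↔ ∃ x : Y, ∃ k ∈ H, y = (x : Y ⧸ H) ∧ z = ((x * k * t : Y) : Y ⧸ H)) →
      (∀ y, Relation.ReflTransGen C.R ((1 : Y) : Y ⧸ H) y) → Function.Injective C.p) :
    Function.Bijective π := by
  classical
  have hsurj : Function.Surjective π := by
    have : π.range = ⊤ := eq_top_of_stab hF h (by omega) d π.range
      (fun g hg => by obtain ⟨x, -, e⟩ := D.onto g hg; exact ⟨x, e⟩) ⟨t, rfl⟩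
      (by rw [D.td]; exact h.swap_zero D.dc)
    exact fun g => this ▸ Subgroup.mem_top g |> MonoidHom.mem_range.1
  refine ⟨?_, hsurj⟩
  have key : ∀ y : Y, (π y).1.1 *ᵥ d.1 = d.1 → y ∈ H := by
    let P : Y ⧸ H → One σ N := Quotient.lift
      (fun x : Y => (⟨(π x).1.1 *ᵥ d.1, by rw [su_uh h, d.2]⟩ : One σ N)) fun a b hab => by
        refine Subtype.ext ?_
        show (π a).1.1 *ᵥ d.1 = (π b).1.1 *ᵥ d.1
        have hab' : a⁻¹ * b ∈ H := QuotientGroup.leftRel_apply.1 hab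
        rw [show b = a * (a⁻¹ * b) by group, map_mul, su_mul_mulVec, D.fix _ hab']
    have hP : ∀ x : Y, (P (x : Y ⧸ H)).1 = (π x).1.1 *ᵥ d.1 := fun _ => rfl
    have hmk : ∀ {a b : Y}, a⁻¹ * b ∈ H → (a : Y ⧸ H) = b := fun hab => QuotientGroup.eq.2 hab
    have heq : ∀ {a b : Y}, (a : Y ⧸ H) = b → a⁻¹ * b ∈ H := fun e => QuotientGroup.eq.1 e
    let R : Y ⧸ H → Y ⧸ H → Prop := fun y z =>
      ∃ x : Y, ∃ k ∈ H, y = (x : Y ⧸ H) ∧ z = ((x * k * t : Y) : Y ⧸ H)
    have hRd : ∀ x : Y, ∀ {z}, R (x : Y ⧸ H) z → ∃ k ∈ H, z = ((x * k * t : Y) : Y ⧸ H) := by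
      rintro x z ⟨x', k, hk, e, rfl⟩
      exact ⟨x⁻¹ * x' * k, mul_mem (heq e) hk, by group⟩
    have hvec : ∀ x k : Y, (π (x * k * t)).1.1 *ᵥ d.1 = (π x).1.1 *ᵥ ((π k).1.1 *ᵥ c.1) := fun x k => by
      rw [map_mul, map_mul, su_mul_mulVec, su_mul_mulVec, D.td]
    have hperp : ∀ k ∈ H, uh σ d.1 ((π k).1.1 *ᵥ c.1) = 0 := fun k hk => by
      conv_lhs => rw [← D.fix k hk]
      rw [su_uh h, D.dc]
    have huniq : ∀ x : Y, ∀ k ∈ H, ∀ k' ∈ H, (π k).1.1 *ᵥ c.1 = (π k').1.1 *ᵥ c.1 →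
        ((x * k * t : Y) : Y ⧸ H) = ((x * k' * t : Y) : Y ⧸ H) := by
      intro x k hk k' hk' e
      refine hmk ?_
      have hz : Commute t (k⁻¹ * k') := D.comm _ (mul_mem (inv_mem hk) hk') (by
        rw [map_mul, map_inv, su_mul_mulVec, ← e, su_inv_mulVec])
      rw [show (x * k * t)⁻¹ * (x * k' * t) = t⁻¹ * ((k⁻¹ * k') * t) by group, ← hz.eq,
        inv_mul_cancel_left]
      exact mul_mem (inv_mem hk) hk'
    let C : Cover (Y ⧸ H) (One σ N) :=
      { adj := fun a b => uh σ a.1 b.1 = 0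
        adj_symm := fun e => h.swap_zero e
        p := P
        R := R
        R_adj := by
          rintro _ _ ⟨x, k, hk, rfl, rfl⟩
          rw [hP, hP, hvec, su_uh h, hperp k hk]
        R_symm := by
          rintro _ _ ⟨x, k, hk, rfl, rfl⟩
          obtain ⟨b, hb, -, hb2⟩ := D.back
          exact ⟨x * k * t, b, hb, rfl, hmk (by
            rw [show x⁻¹ * (x * k * t * b * t) = k * (t * b * t) by group]; exact mul_mem hk hb2)⟩
        lift := by
          intro y u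
          obtain ⟨x, rfl⟩ := QuotientGroup.mk_surjective y
          intro hu
          set u' := ((π x)⁻¹).1.1 *ᵥ u.1 with hu'
          have e1 : uh σ d.1 u' = 0 := by rw [hu', ← su_uh h (π x), su_mulVec_inv, ← hP x, hu]
          obtain ⟨g, hg⟩ := exists_su_map hF h (on_pair h d.2 c.2 D.dc)
            (on_pair h d.2 (show uh σ u' u' = 1 by rw [hu', su_uh h, u.2]) e1) (by omega)
          obtain ⟨k, hk, ek⟩ := D.onto g (hg 0)
          refine ⟨_, ⟨x, k, hk, rfl, rfl⟩, Subtype.ext ?_⟩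
          rw [hP, hvec, ek, show g.1.1 *ᵥ c.1 = u' from hg 1, hu', su_mulVec_inv]
        uniq := by
          intro y z z' hz hz' e
          obtain ⟨x, rfl⟩ := QuotientGroup.mk_surjective y
          obtain ⟨k, hk, rfl⟩ := hRd x hz
          obtain ⟨k', hk', rfl⟩ := hRd x hz'
          refine huniq x k hk k' hk' ?_
          have := congrArg Subtype.val e
          rw [hP, hP, hvec, hvec] at this
          have := congrArg (fun v => ((π x)⁻¹).1.1 *ᵥ v) this
          simpa only [su_inv_mulVec] using this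
        tri := by
          intro y z z' hz hz' e
          obtain ⟨x, rfl⟩ := QuotientGroup.mk_surjective y
          obtain ⟨k, hk, rfl⟩ := hRd x hz
          obtain ⟨k', hk', rfl⟩ := hRd x hz'
          obtain ⟨b, hb, hbc, hb2⟩ := D.braid
          have e' : uh σ ((π (k⁻¹ * k')).1.1 *ᵥ c.1) c.1 = 0 := by
            rw [hP, hP, hvec, hvec, su_uh h] at e
            rw [map_mul, map_inv, su_mul_mulVec, ← su_uh h (π k), su_mulVec_inv]
            exact h.swap_zero e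
          have hk0 : k⁻¹ * k' ∈ H := mul_mem (inv_mem hk) hk'
          obtain ⟨g, hg⟩ := exists_su_map hF h
            (on_triple h d.2 c.2 (show uh σ ((π b).1.1 *ᵥ c.1) ((π b).1.1 *ᵥ c.1) = 1 by rw [su_uh h, c.2])
              D.dc (hperp b hb) (h.swap_zero hbc))
            (on_triple h d.2 c.2 (show uh σ ((π (k⁻¹ * k')).1.1 *ᵥ c.1) _ = 1 by rw [su_uh h, c.2])
              D.dc (hperp _ hk0) (h.swap_zero e')) (by omega)
          obtain ⟨s, hs, es⟩ := D.onto g (hg 0)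
          have hst : Commute t s := D.comm s hs (by rw [es]; exact hg 1)
          refine ⟨x * k * t, s * b, mul_mem hs hb, rfl, ?_⟩
          rw [show x * k' * t = (x * k) * (k⁻¹ * k') * t by group,
            huniq (x * k) _ hk0 (s * b) (mul_mem hs hb) (by
              rw [map_mul π s b, su_mul_mulVec (π s), es]
              exact (hg 2).symm)]
          refine hmk ?_
          have : x * k * t * (s * b) * t = x * k * (s * b) * t * ((b * t)⁻¹ * (t * b * t)) := by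
            calc x * k * t * (s * b) * t = x * k * (t * s) * b * t := by group
              _ = x * k * (s * t) * b * t := by rw [hst.eq]
              _ = _ := by group
          rw [this, show (x * k * (s * b) * t)⁻¹ * (x * k * (s * b) * t * ((b * t)⁻¹ * (t * b * t)))
            = (b * t)⁻¹ * (t * b * t) by group]
          exact hb2 }
    have htrans : ∀ (g : Y) {y z : Y ⧸ H}, R y z → R (g • y) (g • z) := by
      rintro g _ _ ⟨x, k, hk, rfl, rfl⟩
      exact ⟨g * x, k, hk, rfl, by show (((g * (x * k * t)) : Y) : Y ⧸ H) = _; group⟩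
    have conn : ∀ y : Y ⧸ H, Relation.ReflTransGen C.R ((1 : Y) : Y ⧸ H) y := by
      have hstep : ∀ x : Y, Relation.ReflTransGen R ((1 : Y) : Y ⧸ H) (x : Y ⧸ H) := by
        intro x
        have hx : x ∈ Subgroup.closure ((H : Set Y) ∪ {t}) := by rw [D.gen]; trivial
        have move : ∀ g x : Y, Relation.ReflTransGen R ((1 : Y) : Y ⧸ H) (g : Y ⧸ H) →
            Relation.ReflTransGen R ((1 : Y) : Y ⧸ H) (x : Y ⧸ H) →
            Relation.ReflTransGen R ((1 : Y) : Y ⧸ H) ((g * x : Y) : Y ⧸ H) := by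
          intro g x hg hx
          refine hg.trans ?_
          have := hx.lift (p := R) (fun y => g • y) fun a b e => (htrans g e : R (g • a) (g • b))
          simpa [Function.onFun, MulAction.Quotient.smul_coe] using this
        have ht1 : R ((1 : Y) : Y ⧸ H) (t : Y ⧸ H) := ⟨1, 1, one_mem H, rfl, by simp⟩
        induction hx using Subgroup.closure_induction with
        | mem y hy =>
          rcases hy with hy | rfl
          · rw [show ((y : Y) : Y ⧸ H) = ((1 : Y) : Y ⧸ H) from (hmk (by simpa using hy)).symm]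
          · exact .single ht1
        | one => exact .refl
        | mul a b _ _ ha hb => exact move a b ha hb
        | inv a _ ha =>
          have hsym : ∀ {u v : Y ⧸ H}, Relation.ReflTransGen R u v → Relation.ReflTransGen R v u := by
            intro u v huv
            induction huv with
            | refl => exact .refl
            | tail _ e ih => exact ih.head (C.R_symm e)
          have := (hsym ha).lift (p := R) (fun y => a⁻¹ • y)
            fun u v e => (htrans a⁻¹ e : R (a⁻¹ • u) (a⁻¹ • v))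
          simpa [Function.onFun, MulAction.Quotient.smul_coe] using this
      exact fun y => by obtain ⟨x, rfl⟩ := QuotientGroup.mk_surjective y; exact hstep x
    have hinjP : Function.Injective P := hinj C (fun _ _ => Iff.rfl) hP (fun _ _ => Iff.rfl) conn
    intro y hy
    have : (y : Y ⧸ H) = ((1 : Y) : Y ⧸ H) := hinjP (Subtype.ext (by
      rw [hP, hP, hy, map_one, su_one_mulVec]))
    simpa using inv_mem (heq this)
  refine (injective_iff_map_eq_one π).2 fun y hy => D.inj y (key y ?_) hy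
  rw [hy, su_one_mulVec]


theorem StepData.bijective {π : Y →* Cfsg.SU N F q} {H : Subgroup Y} {t : Y} {d c : One σ N}
    (D : StepData σ π H t d c) (hF : Nat.card F = q ^ 2) (h : UFrob σ q) (hN : 5 ≤ N)
    (href : q = 2 → ∀ hN6 : N = 6, ∀ δ : F, δ * σ δ = 1 →
      ∃ x1 ∈ H, ∃ x2 ∈ H, ∃ x1' ∈ H, ∃ x2' ∈ H, ∃ g : Cfsg.SU N F q,
        IsRef σ hN6 δ d.1 ((π (x1 * t * x2 * t)).1.1 *ᵥ d.1) ((π (x1 * t)).1.1 *ᵥ d.1)
          ((π (x1' * t)).1.1 *ᵥ d.1) g ∧ (x1' * t * x2' * t)⁻¹ * (x1 * t * x2 * t) ∈ H) :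
    Function.Bijective π := by
  classical
  refine D.bijective_of hF h (by omega) fun C hadj hP hR conn => ?_
  have hsurj : Function.Surjective π := by
    have : π.range = ⊤ := eq_top_of_stab hF h (by omega) d π.range
      (fun g hg => by obtain ⟨x, -, e⟩ := D.onto g hg; exact ⟨x, e⟩) ⟨t, rfl⟩
      (by rw [D.td]; exact h.swap_zero D.dc)
    exact fun g => this ▸ Subgroup.mem_top g |> MonoidHom.mem_range.1
  have hmk : ∀ {a b : Y}, a⁻¹ * b ∈ H → (a : Y ⧸ H) = b := fun hab => QuotientGroup.eq.2 hab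
  refine Cover.injective (C := C) _ conn
    (fun a b _ _ => by simp only [hadj]; exact exists_common_two hF h (by omega) a b)
    (fun a b b' _ _ _ e => by
      simp only [hadj] at e ⊢
      exact exists_common_three hF h hN a b b' e)
    (fun a b w w' h1 h2 h3 h4 => square_closed hF h hN C hadj ?_ a b w w' h1 h2 h3 h4)
  intro hq hN6 a b w w' Haw Hbw Haw' Hbw' ⟨hbad⟩
  subst hq
  have hA : ∀ {a b : One σ N}, uh σ a.1 b.1 = 0 → C.adj a b := fun e => (hadj _ _).2 e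
  have haw := (hadj _ _).1 Haw
  have hbw := (hadj _ _).1 Hbw
  have haw' := (hadj _ _).1 Haw'
  have hbw' := (hadj _ _).1 Hbw'
  obtain ⟨l, m, r, r', hl, hm, rfl', rfl'', -, -, haw0, hrr, hrr', h12, hra, hrw, hra', hrw',
    hr0, hind⟩ := hbad
  have hl0 : l ≠ 0 := fun e => by simp [e] at hl
  have hm0 : m ≠ 0 := fun e => by simp [e] at hm
  let a' : One σ N := ⟨l • a.1, by rw [uh_smul_self, hl, a.2, one_mul]⟩
  let w1 : One σ N := ⟨m • w.1, by rw [uh_smul_self, hm, w.2, one_mul]⟩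
  have scale : ∀ {x y : One σ N} (z : One σ N) (e : F), z.1 = e • x.1 → uh σ x.1 y.1 = 0 →
      uh σ z.1 y.1 = 0 := fun z e hz hxy => by rw [hz, uh_smul_left, hxy, mul_zero]
  -- squares between proportional vertices
  have prop2 : ∀ (x z u u' : One σ N) (e : F), z.1 = e • x.1 → uh σ x.1 u.1 = 0 →
      uh σ x.1 u'.1 = 0 → C.Sq x z u u' := by
    intro x z u u' e hz hu hu'
    obtain ⟨v, h1, h2, h3⟩ := exists_perp_one hF h (on_pair h x.2 u.2 hu) u'.1
      (by omega) (Or.inl (by omega))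
    let v' : One σ N := ⟨v, h1⟩
    have hxv : C.adj x v' := hA (h.swap_zero (h2 0))
    have hzv : C.adj z v' := hA (scale z e hz (h.swap_zero (h2 0)))
    exact Cover.Sq.trans hxv (C.adj_symm hzv) (Cover.Sq.of_mid (hA (h.swap_zero (h2 1))) hzv)
      (Cover.Sq.of_mid (hA h3) (hA (scale z e hz hu')))
  have ha'w : uh σ a'.1 w.1 = 0 := scale a' l rfl haw
  have ha'w' : uh σ a'.1 w'.1 = 0 := scale a' l rfl haw'
  refine Cover.Sq.move (hA (h.swap_zero ha'w)) (hA (h.swap_zero ha'w')) (prop2 a a' w w' l rfl haw haw') ?_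
  refine Cover.Sq.rotate Hbw' ?_
  refine Cover.Sq.move (a' := w1) (hA (h.swap_zero (scale w1 m rfl (h.swap_zero ha'w))))
    (hA (h.swap_zero (scale w1 m rfl (h.swap_zero hbw))))
    (prop2 w w1 a' b m rfl (h.swap_zero ha'w) (h.swap_zero hbw)) ?_
  have hb' : b.1 = a'.1 + r := rfl'
  have hw1' : w'.1 = w1.1 + r' := rfl''
  obtain ⟨g, hg, g0, g1, g2, g3⟩ := exists_gu_std_plane h (by omega) (α := (1 : F))
    (by rw [map_one, mul_one, eq_neg_iff_add_eq_zero, one_add_one_eq_two, two_eq_zero_of_q_two hF rfl])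
    a'.2 w1.2 (by rw [uh_smul_left, uh_smul_right, haw]; simp) hrr hrr' h12
    (by rw [uh_smul_right, hra, mul_zero]) (by rw [uh_smul_right, hrw, mul_zero])
    (by rw [uh_smul_right, hra', mul_zero]) (by rw [uh_smul_right, hrw', mul_zero]) hr0 hind
  set δ : F := g.1.det with hδ
  have hδ1 : δ ^ (2 + 1) = 1 := by
    rw [pow_succ', ← h.pow]; exact gu_det_norm hF h (by omega) hg
  have hδ0 : δ ≠ 0 := fun e => by simp [e] at hδ1
  set x : Fin N → F := Function.update 1 ⟨0, by omega⟩ δ⁻¹ with hx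
  have hxN : ∀ i, x i ^ (2 + 1) = 1 := fun i => by
    rcases eq_or_ne i ⟨0, by omega⟩ with rfl | hne
    · rw [hx, Function.update_self, inv_pow, hδ1, inv_one]
    · rw [hx, Function.update_of_ne hne, Pi.one_apply, one_pow]
  have hxd : (Matrix.diagonal x).det = δ⁻¹ := by
    rw [det_diagonal, hx, Finset.prod_update_of_mem (Finset.mem_univ _)]
    simp
  let D' := GeneralLinearGroup.mkOfDetNeZero (Matrix.diagonal x) (by rw [hxd]; exact inv_ne_zero hδ0)
  have hD' : D' ∈ Cfsg.GU N F 2 := fun u v => by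
    show Cfsg.hermForm N F 2 (Matrix.diagonal x *ᵥ u) (Matrix.diagonal x *ᵥ v) = _
    rw [diag_mulVec_herm]
    exact Finset.sum_congr rfl fun i _ => by rw [hxN, one_mul]
  obtain ⟨s, hs⟩ := exists_su_eq h (g := g * D') (mul_mem hg hD') (by
    rw [Units.val_mul, det_mul]
    show δ * (Matrix.diagonal x).det = 1
    rw [hxd, mul_inv_cancel₀ hδ0])
  have hδσ : δ * σ δ = 1 := by rw [h.pow, ← pow_succ']; exact hδ1
  obtain ⟨x1, hx1, x2, hx2, x1', hx1', x2', hx2', k, ⟨ra, rw1, rc, rw'⟩, hclose⟩ :=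
    href rfl hN6 δ hδσ
  have hsv : ∀ i : Fin N, ∀ e : F, s.1.1 *ᵥ Pi.single i e = g.1 *ᵥ Pi.single i (x i * e) := by
    intro i e
    rw [hs, Units.val_mul, ← mulVec_mulVec]
    congr 1
    show Matrix.diagonal x *ᵥ _ = _
    rw [diagonal_mulVec_single]
  have hxne : ∀ j : ℕ, ∀ hj : j < N, j ≠ 0 → x ⟨j, hj⟩ = 1 := fun j hj h0 => by
    rw [hx, Function.update_of_ne (by simp [Fin.ext_iff, h0]), Pi.one_apply]
  have hx0 : x ⟨0, by omega⟩ * δ = 1 := by
    rw [hx, Function.update_self, inv_mul_cancel₀ hδ0]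
  obtain ⟨y, hy⟩ := hsurj (s * k⁻¹)
  have hsk : ∀ v : Fin N → F, (π y).1.1 *ᵥ (k.1.1 *ᵥ v) = s.1.1 *ᵥ v := fun v => by
    rw [hy, su_mul_mulVec, su_inv_mulVec]
  have ea : (π y).1.1 *ᵥ d.1 = a'.1 := by rw [ra, hsk, hsv, hx0, g0]
  have ew : (π y).1.1 *ᵥ ((π (x1 * t)).1.1 *ᵥ d.1) = w1.1 := by
    rw [rw1, hsk, hsv, hxne 1 _ one_ne_zero, one_mul, g1]
  have ec : (π y).1.1 *ᵥ ((π (x1 * t * x2 * t)).1.1 *ᵥ d.1) = b.1 := by
    rw [rc, hsk, mulVec_add, mulVec_add, hsv, hsv, hsv, hx0, hxne 2 _ (by omega),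
      hxne 3 _ (by omega), one_mul, ← mulVec_add (g.1) (Pi.single ⟨2, _⟩ 1), g0, g2, hb']
  have ew' : (π y).1.1 *ᵥ ((π (x1' * t)).1.1 *ᵥ d.1) = w'.1 := by
    rw [rw', hsk, mulVec_add, mulVec_add, hsv, hsv, hsv, hxne 1 _ one_ne_zero,
      hxne 4 _ (by omega), hxne 5 _ (by omega), one_mul,
      ← mulVec_add (g.1) (Pi.single ⟨4, _⟩ 1), g1, g3, hw1']
  refine Cover.Sq.rotate (C := C) (C.adj_symm Hbw') ?_
  intro z z1 z2 zc zc' ez h1 e1 h2 e2 hzc ezc hzc' ezc'
  obtain ⟨x0, rfl⟩ := QuotientGroup.mk_surjective z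
  have ez' : (π x0).1.1 *ᵥ d.1 = a'.1 := (hP x0).symm.trans (congrArg Subtype.val ez)
  obtain ⟨k0, hk0, ek0⟩ := D.onto ((π y)⁻¹ * π x0) (by
    rw [su_mul_mulVec, ez', ← ea, su_inv_mulVec])
  set y' := x0 * k0⁻¹ with hy'
  have hπy' : π y' = π y := by rw [hy', map_mul, map_inv, ek0]; group
  have hz0 : ((x0 : Y) : Y ⧸ H) = ((y' : Y) : Y ⧸ H) :=
    hmk (by rw [hy']; simpa using inv_mem hk0)
  rw [hz0] at h1 h2
  have step : ∀ (u : Y) (k : Y), k ∈ H → C.R (u : Y ⧸ H) ((u * k * t : Y) : Y ⧸ H) :=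
    fun u k hk => (hR _ _).2 ⟨u, k, hk, rfl, rfl⟩
  have vec : ∀ u : Y, (π (y' * u)).1.1 *ᵥ d.1 = (π y).1.1 *ᵥ ((π u).1.1 *ᵥ d.1) := fun u => by
    rw [map_mul, su_mul_mulVec, hπy']
  have hsame : (π (x1' * t * x2' * t)).1.1 *ᵥ d.1 = (π (x1 * t * x2 * t)).1.1 *ᵥ d.1 := by
    conv_rhs => rw [show x1 * t * x2 * t =
      (x1' * t * x2' * t) * ((x1' * t * x2' * t)⁻¹ * (x1 * t * x2 * t)) by group]
    rw [map_mul π (x1' * t * x2' * t) (_ : Y), su_mul_mulVec (π (x1' * t * x2' * t)),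
      D.fix _ hclose]
  have q1 : z1 = ((y' * (x1 * t) : Y) : Y ⧸ H) := by
    refine C.uniq h1 (by rw [← mul_assoc]; exact step y' x1 hx1) (e1.trans (Subtype.ext ?_))
    rw [hP, vec, ew]
  subst q1
  have q2 : z2 = ((y' * (x1' * t) : Y) : Y ⧸ H) := by
    refine C.uniq h2 (by rw [← mul_assoc]; exact step y' x1' hx1') (e2.trans (Subtype.ext ?_))
    rw [hP, vec, ew']
  subst q2
  have q3 : zc = ((y' * (x1 * t * x2 * t) : Y) : Y ⧸ H) := by
    refine C.uniq hzc (by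
      rw [show y' * (x1 * t * x2 * t) = y' * (x1 * t) * x2 * t by group]; exact step _ x2 hx2)
      (ezc.trans (Subtype.ext ?_))
    rw [hP, vec, ec]
  have q4 : zc' = ((y' * (x1' * t * x2' * t) : Y) : Y ⧸ H) := by
    refine C.uniq hzc' (by
      rw [show y' * (x1' * t * x2' * t) = y' * (x1' * t) * x2' * t by group]; exact step _ x2' hx2')
      (ezc'.trans (Subtype.ext ?_))
    rw [hP, vec, hsame, ec]
  rw [q3, q4]
  refine hmk ?_
  rw [show (y' * (x1 * t * x2 * t))⁻¹ * (y' * (x1' * t * x2' * t)) =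
    ((x1' * t * x2' * t)⁻¹ * (x1 * t * x2 * t))⁻¹ by group]
  exact inv_mem hclose

end CfsgLib.Pres.SU
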