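import Mathlib.Algebra.Group.Subgroup.Basic
import Mathlib.Tactic.Group

/-!
A group with root subgroups, a group permuting them and simple elements is the union of the cells.
-/

set_option autoImplicit false

namespace CfsgLib.Pres.SU

variable {X ι : Type*} [Group X]

/-- The positive subgroup, the monomial subgroup, and root subgroups. -/
structure RootCells (X ι : Type*) [Group X] where
  R : ι → Subgroup X
  neg : ι → ι
  pos : ι → Prop
  U : Subgroup X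
  M : Subgroup X
  neg_neg : ∀ r, neg (neg r) = r
  pos_or : ∀ r, pos r ∨ pos (neg r)
  R_le : ∀ r, pos r → R r ≤ U
  perm : ∀ m ∈ M, ∃ π : ι → ι, (∀ r, π (neg r) = neg (π r)) ∧ ∀ r, ∀ y ∈ R r, m⁻¹ * y * m ∈ R (π r)

namespace RootCells

variable (D : RootCells X ι)

/-- A simple element, its root and the complement of the root in the positive subgroup. -/
structure Simple (s : X) : Prop where
  mem : s ∈ D.M
  ex : ∃ (α : ι) (V : Subgroup X), D.pos α ∧ (∀ v ∈ V, s * v * s⁻¹ ∈ D.U) ∧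
    (∀ u ∈ D.U, ∃ v ∈ V, ∃ y ∈ D.R α, u = v * y) ∧ (∀ y ∈ D.R α, s⁻¹ * y * s ∈ D.R (D.neg α)) ∧
    ∀ y ∈ D.R α, y ≠ 1 → ∃ a ∈ D.R α, ∃ k ∈ D.M, ∃ a' ∈ D.R α, s * y * s⁻¹ = a * k * a'

/-- The cells. -/
def cells : Set X := {g | ∃ u ∈ D.U, ∃ m ∈ D.M, ∃ u' ∈ D.U, g = u * m * u'}

variable {D}

theorem Simple.mul_cells {s : X} (S : D.Simple s) {g : X} (hg : g ∈ D.cells) : s * g ∈ D.cells := by
  obtain ⟨α, V, hα, hV, hsplit, hneg, htaut⟩ := S.ex
  obtain ⟨u, hu, m, hm, u', hu', rfl⟩ := hg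
  obtain ⟨v, hv, y, hy, rfl⟩ := hsplit u hu
  obtain ⟨π, hπ, hπR⟩ := D.perm m hm
  rcases D.pos_or (π α) with hp | hp
  · refine ⟨s * v * s⁻¹, hV v hv, s * m, mul_mem S.mem hm, m⁻¹ * y * m * u',
      mul_mem (D.R_le _ hp (hπR α y hy)) hu', by group⟩
  by_cases hy1 : y = 1
  · subst hy1
    exact ⟨s * v * s⁻¹, hV v hv, s * m, mul_mem S.mem hm, u', hu', by group⟩
  obtain ⟨a, ha, k, hk, a', ha', e⟩ := htaut y hy hy1
  refine ⟨s * v * s⁻¹ * a, mul_mem (hV v hv) (D.R_le α hα ha), k * s * m,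
    mul_mem (mul_mem hk S.mem) hm, m⁻¹ * (s⁻¹ * a' * s) * m * u', ?_, ?_⟩
  · refine mul_mem (D.R_le _ ?_ (hπR _ _ (hneg a' ha'))) hu'
    rwa [hπ]
  · calc s * (v * y * m * u') = (s * v * s⁻¹) * (s * y * s⁻¹) * s * m * u' := by group
      _ = _ := by rw [e]; group

/-- The group generated by the positive subgroup, by elements whose conjugation preserves it, and by
simple elements is the union of the cells. -/
theorem mem_cells {S T : Set X} (hS : ∀ s ∈ S, D.Simple s ∧ (s * s)⁻¹ ∈ T)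
    (hT : ∀ t ∈ T, t ∈ D.M ∧ ∀ u ∈ D.U, t * u * t⁻¹ ∈ D.U)
    (hT' : ∀ t ∈ T, ∀ u ∈ D.U, t⁻¹ * u * t ∈ D.U) {g : X}
    (hg : g ∈ Subgroup.closure ((D.U : Set X) ∪ T ∪ S)) : g ∈ D.cells := by
  have key : ∀ g ∈ Subgroup.closure ((D.U : Set X) ∪ T ∪ S),
      (∀ y ∈ D.cells, g * y ∈ D.cells) ∧ ∀ y ∈ D.cells, g⁻¹ * y ∈ D.cells := by
    intro g hg
    induction hg using Subgroup.closure_induction with
    | mem y hy =>
      have hU : ∀ x ∈ D.U, ∀ y ∈ D.cells, x * y ∈ D.cells := by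
        rintro x hx _ ⟨u, hu, m, hm, u', hu', rfl⟩
        exact ⟨x * u, D.U.mul_mem hx hu, m, hm, u', hu', by group⟩
      rcases hy with (hy | hy) | hy
      · exact ⟨hU y hy, hU y⁻¹ (inv_mem hy)⟩
      · obtain ⟨htm, htu⟩ := hT y hy
        constructor <;> rintro _ ⟨u, hu, m, hm, u', hu', rfl⟩
        · exact ⟨y * u * y⁻¹, htu u hu, y * m, D.M.mul_mem htm hm, u', hu', by group⟩
        · exact ⟨y⁻¹ * u * y, hT' y hy u hu, y⁻¹ * m, D.M.mul_mem (inv_mem htm) hm, u', hu', by group⟩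
      · refine ⟨fun z hz => (hS y hy).1.mul_cells hz, fun z hz => ?_⟩
        obtain ⟨u, hu, m, hm, u', hu', rfl⟩ := hz
        obtain ⟨htm, htu⟩ := hT _ (hS y hy).2
        have := (hS y hy).1.mul_cells (g := (y * y)⁻¹ * (u * m * u')) ⟨(y * y)⁻¹ * u * (y * y)⁻¹⁻¹,
          htu u hu, (y * y)⁻¹ * m, D.M.mul_mem htm hm, u', hu', by group⟩
        rwa [← mul_assoc, show y * (y * y)⁻¹ = y⁻¹ by group] at this
    | one => simp
    | mul a b _ _ ha hb =>
      exact ⟨fun y hy => by rw [mul_assoc]; exact ha.1 _ (hb.1 y hy),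
        fun y hy => by rw [_root_.mul_inv_rev, mul_assoc]; exact hb.2 _ (ha.2 y hy)⟩
    | inv a _ ha => exact ⟨ha.2, by simpa using ha.1⟩
  simpa using (key g hg).1 1 ⟨1, one_mem _, 1, one_mem _, 1, one_mem _, by group⟩

end RootCells

end CfsgLib.Pres.SU
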