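import Cfsg.Agent.Lib.Classical.UnitarySU
import Cfsg.Agent.Lib.Pres.OnGens

/-!
The centre of a special unitary group is cyclic, so the central quotient costs one relation.
-/

set_option autoImplicit false

namespace CfsgLib.Pres.SU

variable {F : Type*} [Field F] {q : ℕ}

/-- The centre is cyclic. -/
theorem exists_center_gen [Finite F] (hF : Nat.card F = q ^ 2) {m : ℕ} (hm : 2 ≤ m) :
    ∃ z : Cfsg.SU m F q, Subgroup.zpowers z = Subgroup.center (Cfsg.SU m F q) := by
  let j : Subgroup.center (Cfsg.SU m F q) →* F :=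
    { toFun := fun g => g.1.1.1 ⟨0, by omega⟩ ⟨0, by omega⟩
      map_one' := by simp
      map_mul' := fun a b => by
        obtain ⟨c, -, -, hc⟩ := CfsgLib.Classical.SU_center_scalar hF hm a.2
        show (a.1.1.1 * b.1.1.1) ⟨0, by omega⟩ ⟨0, by omega⟩ = _
        rw [hc, Matrix.diagonal_mul]
        simp }
  have hj : Function.Injective j := fun a b e => by
    obtain ⟨c, -, -, hc⟩ := CfsgLib.Classical.SU_center_scalar hF hm a.2
    obtain ⟨d, -, -, hd⟩ := CfsgLib.Classical.SU_center_scalar hF hm b.2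
    refine Subtype.ext (Subtype.ext (Subtype.ext ?_))
    have hcd : c = d := by simpa [j, hc, hd] using e
    rw [hc, hd, hcd]
  obtain ⟨g, hg⟩ := (isCyclic_of_injective_ringHom j hj).exists_generator
  refine ⟨g.1, le_antisymm (by rw [Subgroup.zpowers_le]; exact g.2) fun x hx => ?_⟩
  obtain ⟨k, hk⟩ := hg ⟨x, hx⟩
  exact ⟨k, congrArg Subtype.val hk⟩

/-- A presentation of the central quotient. -/
theorem exists_psu [Finite F] (hF : Nat.card F = q ^ 2) {m : ℕ} (hm : 2 ≤ m) {ι : Type}
    {f : ι → Cfsg.SU m F q} {L : List (FreeGroup ι)} (hd : PresData f L) :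
    ∃ v, PresData (fun i => QuotientGroup.mk' (Subgroup.center (Cfsg.SU m F q)) (f i)) (v :: L) := by
  obtain ⟨z, hz⟩ := exists_center_gen hF hm
  exact hd.quotient _ z hz

end CfsgLib.Pres.SU
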