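import Cfsg.Agent.Lib.Classical.UnitaryFrame

/-!
Vectors of norm one orthogonal to a few given vectors of a Hermitian space.
-/

set_option autoImplicit false

namespace CfsgLib.Pres.SU

open Matrix CfsgLib.Classical CfsgLib.Classical.Unitary

variable {F : Type*} [Field F] [Finite F] {σ : F →+* F} {q n k : ℕ}

/-- An orthonormal family. -/
def ON (σ : F →+* F) (o : Fin k → Fin n → F) : Prop :=
  ∀ i j, uh σ (o i) (o j) = if i = j then 1 else 0

/-- What is left of a vector outside an orthonormal family. -/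
def res (σ : F →+* F) (o : Fin k → Fin n → F) (v : Fin n → F) : Fin n → F :=
  v - ∑ i, uh σ v (o i) • o i

omit [Finite F] in
theorem uh_sum_left {ι : Type*} (s : Finset ι) (v : ι → Fin n → F) (x : Fin n → F) :
    uh σ (∑ i ∈ s, v i) x = ∑ i ∈ s, uh σ (v i) x := sum_dotProduct _ _ _

omit [Finite F] in
theorem uh_res_left {o : Fin k → Fin n → F} (ho : ON σ o) (v : Fin n → F) (j : Fin k) :
    uh σ (res σ o v) (o j) = 0 := by
  simp [res, uh_sub_left, uh_sum_left, uh_smul_left, ho _ j]

omit [Finite F] in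
theorem uh_res_perp (h : UFrob σ q) {o : Fin k → Fin n → F} (v : Fin n → F)
    {z : Fin n → F} (hz : ∀ i, uh σ z (o i) = 0) :
    uh σ (res σ o v) z = uh σ v z := by
  simp [res, uh_sub_left, uh_sum_left, uh_smul_left, fun i => h.swap_zero (hz i)]

omit [Finite F] in
theorem ON.li {o : Fin k → Fin n → F} (ho : ON σ o) : LinearIndependent F o := by
  rw [Fintype.linearIndependent_iff]
  intro g hg i
  have := congrArg (fun x => uh σ x (o i)) hg
  simpa [uh_sum_left, uh_smul_left, uh_zero_left, ho _ i] using this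

omit [Finite F] in
theorem ON.snoc (h : UFrob σ q) {o : Fin k → Fin n → F} (ho : ON σ o) {z : Fin n → F}
    (hz : uh σ z z = 1) (hzo : ∀ i, uh σ z (o i) = 0) :
    ON σ (Fin.snoc o z : Fin (k + 1) → Fin n → F) := by
  intro i j
  induction i using Fin.lastCases with
  | last =>
    induction j using Fin.lastCases with
    | last => simp [hz]
    | cast j => simp [hzo, (Fin.castSucc_lt_last j).ne']
  | cast i =>
    induction j using Fin.lastCases with
    | last => simp [h.swap_zero (hzo i), (Fin.castSucc_lt_last i).ne]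
    | cast j => simp [ho i j]

omit [Finite F] in
theorem std_li (f : Fin k → Fin n) (hf : Function.Injective f) :
    LinearIndependent F fun i => (Pi.single (f i) 1 : Fin n → F) :=
  (Pi.linearIndependent_single_one (Fin n) F).comp f hf

/-- An element of `GU` carrying standard vectors to an orthonormal family. -/
theorem exists_gu_std (h : UFrob σ q) {o : Fin k → Fin n → F} (ho : ON σ o) (hk : k ≤ n) :
    ∃ g ∈ Cfsg.GU n F q, ∀ i, g.1 *ᵥ Pi.single (Fin.castLE hk i) 1 = o i :=
  exists_gu_map h _ o (std_li _ (Fin.castLE_injective hk)) ho.li fun i j => by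
    rw [ho, uh_single_left]
    simp [Pi.single_apply]

/-- Fewer than `n` orthonormal vectors have a common orthogonal vector of norm one. -/
theorem exists_perp (h : UFrob σ q) {o : Fin k → Fin n → F} (ho : ON σ o) (hk : k < n) :
    ∃ z, uh σ z z = 1 ∧ ∀ i, uh σ z (o i) = 0 := by
  obtain ⟨g, hg, hgo⟩ := exists_gu_std h ho hk.le
  refine ⟨g.1 *ᵥ Pi.single ⟨k, hk⟩ 1, by rw [gu_uh h hg]; simp [uh_single_left], fun i => ?_⟩
  rw [← hgo i, gu_uh h hg]
  simp [uh_single_left, Fin.ext_iff, i.isLt.ne']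

omit [Finite F] in
theorem self_fixed (h : UFrob σ q) (v : Fin n → F) : (uh σ v v) ^ q = uh σ v v := by
  rw [← h.pow, h.symm]

/-- A vector which is not isotropic becomes one of norm one. -/
theorem exists_normalise (hF : Nat.card F = q ^ 2) (h : UFrob σ q) {v : Fin n → F}
    (hv : uh σ v v ≠ 0) : ∃ c : F, c ≠ 0 ∧ uh σ (c • v) (c • v) = 1 := by
  obtain ⟨c, hc⟩ := exists_pow_succ_eq hF (c := (uh σ v v)⁻¹) (by rw [inv_pow, self_fixed h])
  rw [pow_succ', ← h.pow] at hc
  refine ⟨c, fun e => ?_, ?_⟩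
  · simp [e] at hc; exact hv hc.symm
  · rw [uh_smul_left, uh_smul_right, ← mul_assoc, hc, inv_mul_cancel₀ hv]

/-- An isotropic nonzero vector of the shape of a standard one. -/
theorem exists_alpha (hF : Nat.card F = q ^ 2) (h : UFrob σ q) : ∃ α : F, α * σ α = -1 := by
  obtain ⟨t, ht⟩ := exists_pow_succ_eq hF (c := -1) (by rw [← h.pow, map_neg, map_one])
  exact ⟨t, by rwa [pow_succ', ← h.pow] at ht⟩

/-- An element of `GU` carrying standard vectors to an orthonormal family and an isotropic vector. -/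
theorem exists_gu_std_iso (h : UFrob σ q) {o : Fin k → Fin n → F} (ho : ON σ o) (hk : k + 2 ≤ n)
    {α : F} (hα : α * σ α = -1) {v : Fin n → F} (hv0 : v ≠ 0) (hvv : uh σ v v = 0)
    (hvo : ∀ i, uh σ v (o i) = 0) :
    ∃ g ∈ Cfsg.GU n F q, (∀ i : Fin k, g.1 *ᵥ Pi.single (Fin.castLE (by omega) i) 1 = o i) ∧
      g.1 *ᵥ (Pi.single ⟨k, by omega⟩ 1 + Pi.single ⟨k + 1, by omega⟩ α) = v := by
  let s : Fin k → Fin n → F := fun i => Pi.single (Fin.castLE (by omega) i) 1
  let u : Fin n → F := Pi.single ⟨k, by omega⟩ 1 + Pi.single ⟨k + 1, by omega⟩ α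
  have hs : ON σ s := fun i j => by simp [s, uh_single_left, Pi.single_apply]
  have hne : ∀ (i : Fin k) (j : Fin n), k ≤ j.val → j ≠ Fin.castLE (by omega) i := fun i j hj e => by
    have := congrArg Fin.val e
    simp at this
    omega
  have hus : ∀ i, uh σ u (s i) = 0 := fun i => by
    simp [u, s, uh_add_left, uh_single_left, hne i ⟨k, by omega⟩ le_rfl,
      hne i ⟨k + 1, by omega⟩ (Nat.le_succ k)]
  have huu : uh σ u u = 0 := by
    simp [u, uh_add_left, uh_single_left, Fin.ext_iff]
    linear_combination hα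
  have hu0 : u ≠ 0 := fun e => by simpa [u, Fin.ext_iff] using congrFun e ⟨k, by omega⟩
  have li : ∀ {t : Fin k → Fin n → F} {w : Fin n → F}, ON σ t → w ≠ 0 →
      (∀ i, uh σ w (t i) = 0) → LinearIndependent F (Fin.snoc t w : Fin (k + 1) → Fin n → F) := by
    intro t w ht hw hwt
    rw [linearIndependent_finSnoc]
    refine ⟨ht.li, fun hmem => hw ?_⟩
    obtain ⟨c, hc⟩ := (Submodule.mem_span_range_iff_exists_fun F).1 hmem
    have : ∀ j, c j = 0 := fun j => by
      have := congrArg (fun x => uh σ x (t j)) hc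
      simpa [uh_sum_left, uh_smul_left, ht _ j, hwt] using this
    simpa [this] using hc.symm
  obtain ⟨g, hg, hgo⟩ := exists_gu_map h (Fin.snoc s u) (Fin.snoc o v) (li hs hu0 hus)
    (li ho hv0 hvo) fun i j => by
      induction i using Fin.lastCases with
      | last =>
        induction j using Fin.lastCases with
        | last => simp [huu, hvv]
        | cast j => simp [hus, hvo]
      | cast i =>
        induction j using Fin.lastCases with
        | last => simp [h.swap_zero (hus i), h.swap_zero (hvo i)]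
        | cast j => simp [hs i j, ho i j]
  exact ⟨g, hg, fun i => by
    have := hgo i.castSucc
    rwa [Fin.snoc_castSucc, Fin.snoc_castSucc] at this, by
    have := hgo (Fin.last k)
    rwa [Fin.snoc_last, Fin.snoc_last] at this⟩

/-- An orthonormal family and one more vector have a common orthogonal vector of norm one. -/
theorem exists_perp_one (hF : Nat.card F = q ^ 2) (h : UFrob σ q) {o : Fin k → Fin n → F}
    (ho : ON σ o) (v : Fin n → F) (hk : k + 2 ≤ n)
    (hiso : k + 3 ≤ n ∨ (uh σ (res σ o v) (res σ o v) = 0 → res σ o v = 0)) :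
    ∃ z, uh σ z z = 1 ∧ (∀ i, uh σ z (o i) = 0) ∧ uh σ z v = 0 := by
  set r := res σ o v with hr
  suffices hs : ∃ z, uh σ z z = 1 ∧ (∀ i, uh σ z (o i) = 0) ∧ uh σ r z = 0 by
    obtain ⟨z, h1, h2, h3⟩ := hs
    exact ⟨z, h1, h2, h.swap_zero (by rw [← uh_res_perp h v h2, ← hr, h3])⟩
  by_cases h0 : r = 0
  · obtain ⟨z, h1, h2⟩ := exists_perp h ho (by omega)
    exact ⟨z, h1, h2, by rw [h0, uh_zero_left]⟩
  by_cases h1 : uh σ r r = 0
  · have hk3 : k + 3 ≤ n := hiso.resolve_right fun e => h0 (e h1)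
    obtain ⟨α, hα⟩ := exists_alpha hF h
    obtain ⟨g, hg, hgo, hgr⟩ := exists_gu_std_iso h ho hk hα h0 h1 (uh_res_left ho v)
    refine ⟨g.1 *ᵥ Pi.single ⟨k + 2, by omega⟩ 1, by rw [gu_uh h hg]; simp [uh_single_left],
      fun i => ?_, ?_⟩
    · rw [← hgo i, gu_uh h hg, uh_single_left, Pi.single_eq_of_ne]
      · simp
      · exact fun e => by have := congrArg Fin.val e; simp at this; omega
    · rw [← hgr, gu_uh h hg]
      simp [uh_add_left, uh_single_left, Fin.ext_iff]
  · obtain ⟨c, hc0, hc⟩ := exists_normalise hF h h1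
    obtain ⟨z, hz1, hz2⟩ := exists_perp h
      (ho.snoc h hc fun i => by rw [uh_smul_left, uh_res_left ho, mul_zero]) (by omega)
    refine ⟨z, hz1, fun i => by simpa using hz2 i.castSucc, ?_⟩
    have := h.swap_zero (hz2 (Fin.last k))
    simpa [uh_smul_left, hc0] using this

omit [Finite F] in
theorem uh_smul_self (v : Fin n → F) (c : F) : uh σ (c • v) (c • v) = c * σ c * uh σ v v := by
  rw [uh_smul_left, uh_smul_right]; ring

/-- Two coordinates of norm one against an isotropic vector. -/
theorem exists_split (hF : Nat.card F = q ^ 2) (h : UFrob σ q) (hq : 3 ≤ q) {α : F}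
    (hα : α * σ α = -1) :
    ∃ x y : F, x * σ x + y * σ y = 1 ∧ (x + y * σ α) * σ (x + y * σ α) ≠ 1 := by
  by_cases h2 : (2 : F) = 0
  · have hneg : (-1 : F) = 1 := by linear_combination -h2
    obtain ⟨ζ, hζ, hζ1⟩ : ∃ ζ : F, ζ * σ ζ = 1 ∧ ζ ≠ 1 := by
      have : Nontrivial (normOne F q) := by
        rw [← Finite.one_lt_card_iff_nontrivial, card_normOne hF]; omega
      obtain ⟨⟨a, ha⟩, hne⟩ := exists_ne (1 : normOne F q)
      have ha1 : a ≠ 1 := fun e => hne (Subtype.ext e)
      refine ⟨a, ?_, fun e => ha1 (Units.ext e)⟩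
      have : (a : F) ^ (q + 1) = 1 := by
        have := (MonoidHom.mem_ker.1 ha)
        exact congrArg Units.val this
      rwa [pow_succ', ← h.pow] at this
    obtain ⟨s, hs0, hs1, hsσ⟩ : ∃ s : F, s ≠ 0 ∧ s ≠ 1 ∧ σ s = s := by
      by_contra hc
      push Not at hc
      have := Fintype.ofFinite F
      classical
      have hall : ∀ x : F, x ≠ 0 → x * σ x = 1 := fun x hx => by
        by_contra hx1
        exact hc _ (mul_ne_zero hx (by simpa using hx)) hx1 (by rw [map_mul, h.invol, mul_comm])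
      have hle : Nat.card Fˣ ≤ Nat.card (normOne F q) :=
        Nat.card_le_card_of_injective (fun u : Fˣ => (⟨u, MonoidHom.mem_ker.2 (Units.ext (by
          have := hall u u.ne_zero
          rw [h.pow, ← pow_succ'] at this
          simpa using this))⟩ : normOne F q)) fun a b e => congrArg Subtype.val e
      rw [card_normOne hF, Nat.card_units, hF] at hle
      have : 3 * q ≤ q ^ 2 := by rw [pow_two]; exact Nat.mul_le_mul_right q hq
      omega
    have hα' : σ α * α = 1 := by rw [mul_comm, hα, hneg]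
    refine ⟨s, ζ * (1 + s) * α, ?_, fun e => hζ1 ?_⟩
    · simp only [map_mul, map_add, map_one, hsσ]
      linear_combination ((1 + s) * (1 + s) * (σ α * α)) * hζ + (1 + s) * (1 + s) * hα' +
        (s + s * s) * h2
    · have e' : (s + ζ * (1 + s) * α * σ α) * σ (s + ζ * (1 + s) * α * σ α) = 1 := e
      simp only [map_add, map_mul, map_one, hsσ, h.invol, mul_assoc, mul_comm (σ α) α, hα, hneg,
        mul_one] at e'
      have : s * (1 + s) * (ζ + σ ζ) = 0 := by
        linear_combination e' - ((1 + s) * (1 + s)) * hζ - (s + s * s) * h2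
      have h1s : (1 : F) + s ≠ 0 := fun e => hs1 (by linear_combination e - h2)
      have hz : ζ + σ ζ = 0 := by
        rcases mul_eq_zero.1 this with h' | h'
        · exact absurd h' (mul_ne_zero hs0 h1s)
        · exact h'
      have : (ζ - 1) * (ζ - 1) = 0 := by linear_combination ζ * hz - hζ - ζ * h2
      exact sub_eq_zero.1 (mul_self_eq_zero.1 this)
  · refine ⟨0, 1, by simp, fun e => h2 ?_⟩
    simp only [zero_add, one_mul, h.invol, mul_comm (σ α) α, hα] at e
    linear_combination -e

/-- A vector of norm one orthogonal to an orthonormal family, against an isotropic one. -/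
theorem exists_perp_ne (hF : Nat.card F = q ^ 2) (h : UFrob σ q) (hq : 3 ≤ q)
    {o : Fin k → Fin n → F} (ho : ON σ o) (hk : k + 2 ≤ n) {v : Fin n → F} (hv0 : v ≠ 0)
    (hvv : uh σ v v = 0) (hvo : ∀ i, uh σ v (o i) = 0) :
    ∃ z, uh σ z z = 1 ∧ (∀ i, uh σ z (o i) = 0) ∧ uh σ z v * σ (uh σ z v) ≠ 1 := by
  obtain ⟨α, hα⟩ := exists_alpha hF h
  obtain ⟨x, y, hxy, hne⟩ := exists_split hF h hq hα
  obtain ⟨g, hg, hgo, hgv⟩ := exists_gu_std_iso h ho hk hα hv0 hvv hvo
  refine ⟨g.1 *ᵥ (Pi.single ⟨k, by omega⟩ x + Pi.single ⟨k + 1, by omega⟩ y), ?_, fun i => ?_, ?_⟩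
  · rw [gu_uh h hg]
    simp [uh_add_left, uh_single_left, Fin.ext_iff, hxy]
  · rw [← hgo i, gu_uh h hg, uh_add_left, uh_single_left, uh_single_left, Pi.single_eq_of_ne,
      Pi.single_eq_of_ne]
    · simp
    all_goals exact fun e => by have := congrArg Fin.val e; simp at this; omega
  · rw [← hgv, gu_uh h hg]
    simpa [uh_add_left, uh_single_left, Fin.ext_iff] using hne

end CfsgLib.Pres.SU
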